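import Mathlib

/-!
Maximal subgroups of maximal subgroups: elementary helpers.
Owner: helper95.
-/
set_option autoImplicit false

namespace Cfsg.Agent.Lib.MaxOfMax

variable {G : Type*} [Group G]

/-- If nothing lies strictly between `H < K`, then `H` is a coatom of `Subgroup K`. -/
theorem isCoatom_subgroupOf_of_forall {H K : Subgroup G} (hHK : H ≤ K) (hne : ¬ K ≤ H)
    (h : ∀ L : Subgroup G, H ≤ L → L ≤ K → L = H ∨ L = K) : IsCoatom (H.subgroupOf K) := by
  refine ⟨fun he => hne (Subgroup.subgroupOf_eq_top.1 he), fun L' hL' => ?_⟩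
  have h1 : H ≤ L'.map K.subtype := by
    intro x hx
    exact ⟨⟨x, hHK hx⟩, hL'.le (Subgroup.mem_subgroupOf.2 hx), rfl⟩
  rcases h _ h1 (Subgroup.map_subtype_le L') with he | he
  · exfalso
    apply hL'.ne
    refine le_antisymm hL'.le fun x hx => ?_
    rw [Subgroup.mem_subgroupOf, ← he]
    exact ⟨x, hx, rfl⟩
  · rw [eq_top_iff]
    intro x _
    have hx : (x : G) ∈ L'.map K.subtype := by rw [he]; exact x.2
    obtain ⟨y, hy, hyx⟩ := hx
    rwa [show x = y from Subtype.ext hyx.symm]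

/-- A coatom of `Subgroup K` given as `H.subgroupOf K`: nothing lies strictly between. -/
theorem eq_or_eq_of_isCoatom_subgroupOf {H K L : Subgroup G} (h : IsCoatom (H.subgroupOf K))
    (hHL : H ≤ L) (hLK : L ≤ K) : L = H ∨ L = K := by
  have hle : H.subgroupOf K ≤ L.subgroupOf K := fun x hx =>
    Subgroup.mem_subgroupOf.2 (hHL (Subgroup.mem_subgroupOf.1 hx))
  rcases hle.lt_or_eq with hlt | heq
  · exact Or.inr (le_antisymm hLK (Subgroup.subgroupOf_eq_top.1 (h.2 _ hlt)))
  · refine Or.inl (le_antisymm (fun x hx => ?_) hHL)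
    have : (⟨x, hLK hx⟩ : K) ∈ H.subgroupOf K := by
      rw [heq]; exact Subgroup.mem_subgroupOf.2 hx
    exact Subgroup.mem_subgroupOf.1 this

theorem not_le_of_isCoatom_subgroupOf {H K : Subgroup G} (h : IsCoatom (H.subgroupOf K)) : ¬ K ≤ H :=
  fun hle => h.1 (Subgroup.subgroupOf_eq_top.2 hle)

/-- If `H` is maximal in the maximal subgroup `M` and `K ≠ M` is another maximal subgroup over `H`,
then `K ⊓ M = H` and `K` is not inside `H`. -/
theorem inf_eq_of_maximal {M H K : Subgroup G} (hM : IsCoatom M) (hK : IsCoatom K) (hne : K ≠ M)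
    (hHM : H ≤ M) (hmax : IsCoatom (H.subgroupOf M)) (hHK : H ≤ K) :
    K ⊓ M = H ∧ ¬ K ≤ H := by
  refine ⟨?_, fun hle => hne ?_⟩
  · rcases eq_or_eq_of_isCoatom_subgroupOf hmax (le_inf hHK hHM) inf_le_right with h | h
    · exact h
    · exfalso
      have hMK : M ≤ K := h ▸ (inf_le_left : K ⊓ M ≤ K)
      exact hne ((hM.le_iff.1 hMK).resolve_left hK.1)
  · exact ((hK.le_iff.1 (hle.trans hHM)).resolve_left hM.1).symm

end Cfsg.Agent.Lib.MaxOfMax
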