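import Mathlib

/-!
Complements in subgroup lattices through a subgroup lying in a unique maximal subgroup.
Owner: helper95.
-/
set_option autoImplicit false

namespace Cfsg.Agent.Lib.MaxOfMax

variable {G : Type*} [Group G]

/-- The interval criterion: `H` not in `M`, meeting `T` trivially, has a complement. -/
theorem exists_compl_of_interval [Finite G] {T X M H : Subgroup G}
    (hTX : T ≤ X)
    (hint : ∀ Y : Subgroup G, T ≤ Y → Y ≤ X → ∃ C : Subgroup G, T ≤ C ∧ C ≤ X ∧ Y ⊔ C = X ∧ Y ⊓ C = T)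
    (huniq : ∀ M' : Subgroup G, IsCoatom M' → X ≤ M' → M' = M)
    (hH : ¬ H ≤ M) (hHT : H ⊓ T = ⊥) : ∃ C : Subgroup G, H ⊔ C = ⊤ ∧ H ⊓ C = ⊥ := by
  obtain ⟨C, hTC, hCX, hsup, hinf⟩ := hint (H ⊓ X ⊔ T) le_sup_right (sup_le inf_le_right hTX)
  refine ⟨C, ?_, le_bot_iff.1 ?_⟩
  · rcases eq_top_or_exists_le_coatom (H ⊔ C) with h | ⟨M', hM', hle⟩
    · exact h
    · exfalso
      have hX : X ≤ H ⊔ C := by
        rw [← hsup]
        exact sup_le (sup_le (inf_le_left.trans le_sup_left) (hTC.trans le_sup_right)) le_sup_right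
      exact hH (huniq M' hM' (hX.trans hle) ▸ le_sup_left.trans hle)
  · rw [← hHT]
    refine le_inf inf_le_left ?_
    rw [← hinf]
    exact le_inf ((le_inf inf_le_left (inf_le_right.trans hCX)).trans le_sup_left) inf_le_right

/-- Complements transport along a conjugation. -/
theorem exists_compl_of_conj {H : Subgroup G} (g : G)
    (h : ∃ C : Subgroup G, H.map (MulAut.conj g).toMonoidHom ⊔ C = ⊤ ∧
      H.map (MulAut.conj g).toMonoidHom ⊓ C = ⊥) : ∃ C : Subgroup G, H ⊔ C = ⊤ ∧ H ⊓ C = ⊥ := by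
  obtain ⟨C, h1, h2⟩ := h
  set e : G ≃* G := MulAut.conj g
  have hC : (C.comap e.toMonoidHom).map e.toMonoidHom = C :=
    Subgroup.map_comap_eq_self_of_surjective e.surjective C
  refine ⟨C.comap e.toMonoidHom, Subgroup.map_injective (f := e.toMonoidHom) e.injective ?_,
    Subgroup.map_injective (f := e.toMonoidHom) e.injective ?_⟩
  · rw [Subgroup.map_sup, hC, h1, Subgroup.map_top_of_surjective _ e.surjective]
  · rw [Subgroup.map_inf _ _ e.toMonoidHom e.injective, hC, h2, Subgroup.map_bot]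

/-- A subgroup outside the normal core of `M` has a conjugate outside `M`. -/
theorem exists_conj_not_le {H M : Subgroup G} (h : ¬ H ≤ M.normalCore) :
    ∃ g : G, ¬ H.map (MulAut.conj g).toMonoidHom ≤ M := by
  by_contra hcon
  push Not at hcon
  exact h fun x hx g => hcon g ⟨x, hx, rfl⟩

/-- A complemented subgroup lattice of `X ⧸ N` gives a complemented interval `[N, X]`. -/
theorem interval_of_quotient {N X : Subgroup G} [(N.subgroupOf X).Normal] (hNX : N ≤ X)
    (hK : ComplementedLattice (Subgroup (X ⧸ N.subgroupOf X))) (Y : Subgroup G) (hY : N ≤ Y)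
    (hYX : Y ≤ X) :
    ∃ C : Subgroup G, N ≤ C ∧ C ≤ X ∧ Y ⊔ C = X ∧ Y ⊓ C = N := by
  set π := QuotientGroup.mk' (N.subgroupOf X)
  obtain ⟨C', hC'⟩ := exists_isCompl ((Y.subgroupOf X).map π)
  have hker : (N.subgroupOf X) ≤ Y.subgroupOf X := fun x hx =>
    Subgroup.mem_subgroupOf.2 (hY (Subgroup.mem_subgroupOf.1 hx))
  have hY' : ((Y.subgroupOf X).map π).comap π = Y.subgroupOf X := by
    rw [Subgroup.comap_map_eq, QuotientGroup.ker_mk', sup_eq_left]
    exact hker
  have hsurj : Function.Surjective π := QuotientGroup.mk'_surjective _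
  have hmap : ∀ A : Subgroup G, A ≤ X → (A.subgroupOf X).map X.subtype = A := fun A hA => by
    rw [Subgroup.subgroupOf_map_subtype, inf_eq_left.2 hA]
  refine ⟨(C'.comap π).map X.subtype, ?_, Subgroup.map_subtype_le _, ?_, ?_⟩
  · refine (hmap N hNX).symm.le.trans (Subgroup.map_mono ?_)
    exact (QuotientGroup.ker_mk' _).symm.le.trans (π.ker_le_comap C')
  · conv_lhs => rw [← hmap Y hYX, ← hY', ← Subgroup.map_sup]
    rw [Subgroup.comap_sup_eq π _ _ hsurj, hC'.sup_eq_top, Subgroup.comap_top,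
      ← MonoidHom.range_eq_map, Subgroup.range_subtype]
  · conv_lhs => rw [← hmap Y hYX, ← hY',
      ← Subgroup.map_inf _ _ X.subtype X.subtype_injective]
    rw [← Subgroup.comap_inf, hC'.inf_eq_bot, MonoidHom.comap_bot, QuotientGroup.ker_mk', hmap N hNX]

end Cfsg.Agent.Lib.MaxOfMax
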